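import Cfsg.Agent.H0.MO82.D
import Cfsg.Agent.H0.TCO823.Main
import Cfsg.Agent.H0.TCO822.Main
import Cfsg.Agent.H0.TCO821.Main
import Cfsg.Agent.H0.TCO820.Main
set_option maxRecDepth 100000
set_option Elab.async false
set_option linter.unusedSectionVars false
namespace H0.MO82
open H0 BN 
theorem rels : ∀ r ∈ B, ev R.p r = 1 := all_take_done (all_take_step (all_take_step (all_take_zero _ B) (rels_of_relsW R c0)) (rels_of_relsW R c1)) (by decide +kernel)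
theorem defs_ok : DefsOK R.p defs 10 := defsOK_of_chk c2
variable {G : Type} [Group G] (P : Pres G 10 B)
noncomputable def m : Model G := P.model defs R rels (by decide +kernel) defs_ok R_ge
include P
theorem mR : (m P).R = R := rfl
theorem g_eq {x : ℕ} (h : x < 10) : (m P).g x = P.g x := extG_out defs P.g 10 (Or.inl h)
theorem top : gen (m P).g (lets 10) = ⊤ := (gen_extG defs P.g 10 (by decide)).trans P.top
theorem grel : ∀ r ∈ B, ev (m P).g r = 1 := rels_extG defs 10 (by decide +kernel) P.rel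
theorem hi : ∀ x < 10, (m P).g x * (m P).g (inv x) = 1 := inv_of_invChk (grel P) (by decide +kernel)
theorem upper : Finite G ∧ Nat.card G ≤ 174182400 := card_of_top (top P) ((chain_step (σ := [[0], [1], [2], [3], [4], [5], [6], [7], [8], [9]]) (n := 1120) H0.TCO820.main rfl rfl (rels_of_consChk (grel P) 10 inv (by decide +kernel)) (chain_step (σ := [[3], [4], [5], [6], [7], [8], [9]]) (n := 648) H0.TCO821.main rfl rfl (rels_of_consChk (grel P) 10 inv (by decide +kernel)) (chain_step (σ := [[6], [7], [8], [9]]) (n := 120) H0.TCO822.main rfl rfl (rels_of_consChk (grel P) 10 inv (by decide +kernel)) (chain_step (σ := [[9]]) (n := 2) H0.TCO823.main rfl rfl (rels_of_consChk (grel P) 10 inv (by decide +kernel)) (chain_start _))))).imp_right fun h => h.trans (by decide +kernel))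
theorem fin : Finite G := (upper P).1
theorem card_base : Nat.card G = 174182400 ∧ (m P).pst [649, 62, 1, 0] = ⊥ :=
  haveI := fin P
  (m P).card_done ((m P).card_step (lo := 649) (d := 2) (Model.via _ (mR P) (fun R => Model.fixW R [62, 1, 0] [[9]]) c9) ((m P).inOrb_grow [0] ((m P).inOrb_self _ 649) (Model.via _ (mR P) (fun R => Model.growW R [[9]] [0] (Nat.pow 2 649) (ival 649 2)) c10)) (Model.via _ (mR P) (fun R => Nat.ble (649 + 2) R.N) (by decide +kernel)) ((m P).card_step (lo := 62) (d := 120) (Model.via _ (mR P) (fun R => Model.fixW R [1, 0] [[6], [7]]) c7) ((m P).inOrb_grow [0, 1, 0, 1, 0, 1, 1, 0, 1, 0, 1, 1, 0, 1] ((m P).inOrb_self _ 62) (Model.via _ (mR P) (fun R => Model.growW R [[6], [7]] [0, 1, 0, 1, 0, 1, 1, 0, 1, 0, 1, 1, 0, 1] (Nat.pow 2 62) (ival 62 120)) c8)) (Model.via _ (mR P) (fun R => Nat.ble (62 + 120) R.N) (by decide +kernel)) ((m P).card_step (lo := 1) (d := 648) (Model.via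 _ (mR P) (fun R => Model.fixW R [0] [[3], [4]]) c5) ((m P).inOrb_grow [0, 1, 0, 1, 0, 1, 1, 0, 1, 1, 0, 1, 1, 0, 1, 1, 0, 1, 1, 1, 0, 1, 1, 1, 1, 0] ((m P).inOrb_self _ 1) (Model.via _ (mR P) (fun R => Model.growW R [[3], [4]] [0, 1, 0, 1, 0, 1, 1, 0, 1, 1, 0, 1, 1, 0, 1, 1, 0, 1, 1, 1, 0, 1, 1, 1, 1, 0] (Nat.pow 2 1) (ival 1 648)) c6)) (Model.via _ (mR P) (fun R => Nat.ble (1 + 648) R.N) (by decide +kernel)) ((m P).card_step (lo := 0) (d := 1120) (Model.via _ (mR P) (fun R => Model.fixW R [] [[0], [1]]) c3) ((m P).inOrb_grow [0, 1, 0, 1, 0, 1, 1, 0, 1, 1, 0, 1, 1, 0, 1, 1, 0, 1, 1, 0, 1, 1, 0, 1, 0, 1] ((m P).inOrb_self _ 0) (Model.via _ (mR P) (fun R => Model.growW R [[0], [1]] [0, 1, 0, 1, 0, 1, 1, 0, 1, 1, 0, 1, 1, 0, 1, 1, 0, 1, 1, 0, 1, 1, 0, 1, 0, 1] (Nat.pow 2 0) (ival 0 1120)) c4)) (Model.via _ (mR P) (fun R => Nat.ble (0 + 1120) R.N) (by decide +kernel)) ((m P).card_start))))) (upper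 P).2 (by decide +kernel)
theorem card : Nat.card G = 174182400 := (card_base P).1
theorem base : (m P).pst [649, 62, 1, 0] = ⊥ := (card_base P).2
theorem inj : Function.Injective (m P).φ := (m P).inj_of_base (base P)
theorem trans : (m P).orb ⊤ 0 = Set.Ico 0 (0 + 1120) :=
  (m P).orb_eq_ico' ((m P).inOrb_mono le_top ((m P).inOrb_grow [0, 1, 0, 1, 0, 1, 1, 0, 1, 1, 0, 1, 1, 0, 1, 1, 0, 1, 1, 0, 1, 1, 0, 1, 0, 1] ((m P).inOrb_self _ 0) (Model.via _ (mR P) (fun R => Model.growW R [[0], [1]] [0, 1, 0, 1, 0, 1, 1, 0, 1, 1, 0, 1, 1, 0, 1, 1, 0, 1, 1, 0, 1, 1, 0, 1, 0, 1] (Nat.pow 2 0) (ival 0 1120)) c11))) (top P).ge (Model.via _ (mR P) (fun R => Model.invW R [[0], [1], [2], [3], [4], [5], [6], [7], [8], [9]] 0 1120) c12) (by decide)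
theorem sub1 : (m P).InOrb (gen (m P).g [[3], [4]]) 60 (ival 1 648) := ((m P).inOrb_grow [0, 1, 1, 0, 1, 0, 1, 1, 0, 1, 1, 0, 1, 1, 0, 1, 1, 1, 0, 1, 1, 1] ((m P).inOrb_self _ 60) (Model.via _ (mR P) (fun R => Model.growW R [[3], [4]] [0, 1, 1, 0, 1, 0, 1, 1, 0, 1, 1, 0, 1, 1, 0, 1, 1, 1, 0, 1, 1, 1] (Nat.pow 2 60) (ival 1 648)) c14))
theorem sub649 : (m P).InOrb (gen (m P).g [[3], [4]]) 650 (ival 649 81) := ((m P).inOrb_grow [0, 1, 0, 1, 0, 1, 1, 0, 1, 1, 1, 1, 0, 1, 1, 1, 1, 0, 1] ((m P).inOrb_self _ 650) (Model.via _ (mR P) (fun R => Model.growW R [[3], [4]] [0, 1, 0, 1, 0, 1, 1, 0, 1, 1, 1, 1, 0, 1, 1, 1, 1, 0, 1] (Nat.pow 2 650) (ival 649 81)) c17))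
theorem sub730 : (m P).InOrb (gen (m P).g [[3], [4]]) 903 (ival 730 270) := ((m P).inOrb_grow [0, 1, 0, 1, 0, 1, 1, 0, 1, 0, 1, 1, 0, 1, 1, 1, 0, 1, 0, 1] ((m P).inOrb_self _ 903) (Model.via _ (mR P) (fun R => Model.growW R [[3], [4]] [0, 1, 0, 1, 0, 1, 1, 0, 1, 0, 1, 1, 0, 1, 1, 1, 0, 1, 0, 1] (Nat.pow 2 903) (ival 730 270)) c20))
theorem sub1000 : (m P).InOrb (gen (m P).g [[3], [4]]) 1003 (ival 1000 120) := ((m P).inOrb_grow [0, 1, 0, 1, 1, 0, 1, 1, 0, 1, 1, 0, 1, 1, 0, 1] ((m P).inOrb_self _ 1003) (Model.via _ (mR P) (fun R => Model.growW R [[3], [4]] [0, 1, 0, 1, 1, 0, 1, 1, 0, 1, 1, 0, 1, 1, 0, 1] (Nat.pow 2 1003) (ival 1000 120)) c23))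
theorem coatom : IsCoatom ((m P).pst [0]) := (m P).coatom (trans P) (by decide) ((m P).maxUpTo_step ((m P).maxUpTo_step ((m P).maxUpTo_step ((m P).maxUpTo_step ((m P).maxUpTo_one 1120) (Model.via _ (mR P) (fun R => Model.fixW R [0] [[3], [4]]) c13) (sub1 P) (Model.via _ (mR P) (fun R => Nat.ble (1 + 648) R.N) (by decide +kernel)) (Model.via _ (mR P) (fun R => Nat.ble (0 + 1120) R.N) (by decide +kernel)) (Model.via _ (mR P) (fun R => mapsW R [1] (Nat.pow 2 0) (Nat.pow 2 60)) c15) ((m P).inOrb_grow [0, 0, 2, 0, 1, 2, 0, 2, 1, 0, 2, 0, 1, 2, 0, 2, 0] ((m P).inOrb_self _ 0) (Model.via _ (mR P) (fun R => Model.growW R [[1], [3], [4]] [0, 0, 2, 0, 1, 2, 0, 2, 1, 0, 2, 0, 1, 2, 0, 2, 0] (Nat.pow 2 0) (ival 0 1120)) c16))) (Model.via _ (mR P) (fun R => Model.fixW R [0] [[3], [4]]) c13) (sub649 P) (Model.via _ (mR P) (fun R => Nat.ble (649 + 81) R.N) (by decide +kernel)) (Model.via _ (mR P) (fun R => Nat.ble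 (0 + 1120) R.N) (by decide +kernel)) (Model.via _ (mR P) (fun R => mapsW R [1, 0, 1, 1, 1, 1] (Nat.pow 2 0) (Nat.pow 2 650)) c18) ((m P).inOrb_grow [0, 1, 0, 2, 1, 2, 0, 2, 1, 2, 0, 2, 1, 2, 0, 2, 1, 2, 0, 2] ((m P).inOrb_self _ 0) (Model.via _ (mR P) (fun R => Model.growW R [[1, 0, 1, 1, 1, 1], [3], [4]] [0, 1, 0, 2, 1, 2, 0, 2, 1, 2, 0, 2, 1, 2, 0, 2, 1, 2, 0, 2] (Nat.pow 2 0) (ival 0 1120)) c19))) (Model.via _ (mR P) (fun R => Model.fixW R [0] [[3], [4]]) c13) (sub730 P) (Model.via _ (mR P) (fun R => Nat.ble (730 + 270) R.N) (by decide +kernel)) (Model.via _ (mR P) (fun R => Nat.ble (0 + 1120) R.N) (by decide +kernel)) (Model.via _ (mR P) (fun R => mapsW R [0, 1] (Nat.pow 2 0) (Nat.pow 2 903)) c21) ((m P).inOrb_grow [0, 0, 2, 0, 1, 2, 0, 2, 0, 1, 2, 0, 2, 1, 0, 2, 0] ((m P).inOrb_self _ 0) (Model.via _ (mR P) (fun R => Model.growW R [[0, 1], [3], [4]] [0, 0, 2, 0, 1, 2, 0, 2, 0, 1, 2, 0, 2,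 1, 0, 2, 0] (Nat.pow 2 0) (ival 0 1120)) c22))) (Model.via _ (mR P) (fun R => Model.fixW R [0] [[3], [4]]) c13) (sub1000 P) (Model.via _ (mR P) (fun R => Nat.ble (1000 + 120) R.N) (by decide +kernel)) (Model.via _ (mR P) (fun R => Nat.ble (0 + 1120) R.N) (by decide +kernel)) (Model.via _ (mR P) (fun R => mapsW R [0, 1, 0] (Nat.pow 2 0) (Nat.pow 2 1003)) c24) ((m P).inOrb_grow [0, 0, 1, 2, 0, 1, 2, 0, 2, 1, 0, 2, 0, 1, 2, 0] ((m P).inOrb_self _ 0) (Model.via _ (mR P) (fun R => Model.growW R [[0, 1, 0], [3], [4]] [0, 0, 1, 2, 0, 1, 2, 0, 2, 1, 0, 2, 0, 1, 2, 0] (Nat.pow 2 0) (ival 0 1120)) c25)))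
theorem ng : ∀ N : Subgroup G, N.Normal → ev (m P).g [10] ∈ N → N = ⊤ :=
  ng_top (hi P) ngSt [10] (by decide) (all_take_done (all_take_step (all_take_zero _ ngR) ((m P).ev_one_of_base (base P) (Model.via _ (mR P) (fun R => Model.fixW R [649, 62, 1, 0] ((ngR.drop 0).take 20)) c26))) (by decide +kernel)) (top P) (by decide)
theorem card_stab : Nat.card ((m P).pst [0]) = 155520 := (m P).card_stab (trans P) (by rw [card P]) (by decide)
theorem simple : IsSimpleGroup G :=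
  haveI := fin P
  simple_of_coatom _ (coatom P) (fun N hN h => (m P).normal_le_stab (trans P) (base P) (by decide) N h)
    (ev (m P).g [10]) 7 (by rw [← ev_wpow]; exact (all_take_done (all_take_step (all_take_zero _ xR) ((m P).ev_one_of_base (base P) (Model.via _ (mR P) (fun R => Model.fixW R [649, 62, 1, 0] ((xR.drop 0).take 1)) c27))) (by decide +kernel)) _ (List.mem_singleton_self _))
    (by rw [card_stab P]; decide +kernel) (ng P)
end H0.MO82
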